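import Cfsg.Agent.CAR.Defs

/-! Operator groups of Carter type: minimal `2F`-offenders of rank at least two. -/

set_option autoImplicit false

open scoped commutatorElement Pointwise

namespace Cfsg.Lib.FPF

open Cfsg Subgroup Cfsg.Lib.Trans Cfsg.Lib.Trans.TJ Cfsg.Lib.Gold

universe u

variable {Γ : Type u} [Group Γ] [Finite Γ] {A S V F E U P Q : Subgroup Γ}

namespace Big

variable {g y : Γ}

theorem al_of4 (h : Md4 V F S A) (s : Sq V) (hy : y ∈ F) (hg : g ∈ S) (e : g * y * g⁻¹ = y⁻¹)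
    (c : Nat.card ↥⁅V, zpowers y⁆ = 4) : Al V F S := by
  have o : Odd (orderOf y) := h.oddF.of_dvd_nat (F.orderOf_dvd_natCard hy)
  have hV := h.FV hy
  have h1 := cube (s.mono (Solv.commutator_le_left_of_le_normalizer (zpowers_le.2 hV))) c
    (Ns_comm hV (le_normalizer (mem_zpowers y))) o
  have h2 : V ≤ C1 (y ^ 3) := (cm_sup s hV o).ge.trans (sup_le
    (fun v hv => mem_C1.2 (h1 v hv)) fun v hv => mem_C1.2 ((mem_C1.1 hv.2).pow_right 3))
  have h3 : y ^ 3 = 1 := mem_bot.1 (h.faith ▸ ⟨mem_sup_left (pow_mem hy 3),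
    fun v hv => mem_C1.1 (h2 hv)⟩)
  refine ⟨y, hy, g, hg, orderOf_eq_prime h3 fun y1 => ?_, c, e⟩
  rw [y1, zpowers_one_eq_bot, commutator_bot_right, card_bot] at c
  omega

/-- The dihedral family with the facts coming from minimality. -/
structure Fm4 (V F S A E : Subgroup Γ) {ι : Type} (x b : ι → Γ) : Prop extends Md4 V F S A where
  s : Sq V
  le : E ≤ S
  sE : Sq E
  xF : ∀ i, x i ∈ F
  pr : ∀ i, (orderOf (x i)).Prime
  bE : ∀ i, b i ∈ E
  pm : ∀ i, ∀ a ∈ E, a * x i * a⁻¹ = x i ∨ a * x i * a⁻¹ = (x i)⁻¹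
  inv : ∀ i, b i * x i * (b i)⁻¹ = (x i)⁻¹
  xx : ∀ i j, Commute (x i) (x j)
  bx : ∀ i j, i ≠ j → Commute (b i) (x j)
  lt4 : ∀ i, (Cs E).relIndex (V ⊓ Cs (E ⊓ C1 (x i))) < 4

namespace Fm4

variable {ι : Type} {x b : ι → Γ} (h : Fm4 V F S A E x b) {i j : ι}
include h

omit [Finite Γ] in
theorem odd (i : ι) : Odd (orderOf (x i)) :=
  h.oddF.of_dvd_nat (F.orderOf_dvd_natCard (h.xF i))

omit [Finite Γ] in
theorem top : Inv V E x V := ⟨le_rfl, h.le.trans h.SV, fun i => h.FV (h.xF i)⟩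

omit [Finite Γ] in
theorem icm (u : Inv V E x U) (i : ι) : Inv V E x ⁅U, zpowers (x i)⁆ :=
  ⟨(Solv.commutator_le_left_of_le_normalizer (zpowers_le.2 (u.nx i))).trans u.le,
    fun a ha => Ns_comm (u.nE ha) (Ns_zp (h.pm i a ha)),
    fun j => Ns_comm (u.nx j) (Ns_zp (Or.inl (h.xx j i).mul_inv_cancel))⟩

omit [Finite Γ] in
theorem ic (u : Inv V E x U) (i : ι) : Inv V E x (U ⊓ C1 (x i)) :=
  ⟨inf_le_left.trans u.le, fun a ha => Ns_inf (u.nE ha) (Ns_C1 (h.pm i a ha)),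
    fun j => Ns_inf (u.nx j) (Ns_C1 (Or.inl (h.xx j i).mul_inv_cancel))⟩

theorem fpf (i : ι) : ⁅V, zpowers (x i)⁆ ⊓ C1 (x i) = ⊥ := cm_inf h.s (h.top.nx i) (h.odd i)

theorem ne (i : ι) : ⁅V, zpowers (x i)⁆ ≠ ⊥ := fun e => by
  have h1 := cm_sup h.s (h.top.nx i) (h.odd i)
  rw [e, bot_sup_eq, inf_eq_left] at h1
  have : x i = 1 := mem_bot.1 (h.faith ▸ ⟨mem_sup_left (h.xF i), fun v hv => mem_C1.1 (h1 hv)⟩)
  exact (h.pr i).ne_one (by rw [this, orderOf_one])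

theorem fix (h1 : P ≤ V) (h2 : Q ≤ E) (h3 : Q ≤ Ns P) (ne : P ≠ ⊥) : ∃ u ∈ P, u ≠ 1 ∧ u ∈ Cs Q :=
  let ⟨u, hu, u1, k⟩ := TIM.exists_fix (h.sE.mono h2).pg (h.s.mono h1).pg h3 ne
  ⟨u, hu, u1, fun p hp => (k p hp).symm⟩

theorem two (i : ι) : Nat.card ↥(⁅V, zpowers (x i)⁆ ⊓ Cs E) = 2 ∧ orderOf (x i) = 3 := by
  have : Fact (Nat.Prime 2) := ⟨Nat.prime_two⟩
  have w := h.icm h.top i
  set U := ⁅V, zpowers (x i)⁆ ⊓ Cs (E ⊓ C1 (x i)) with hU
  have s : Sq U := h.s.mono (inf_le_left.trans w.le)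
  have hx : x i ∈ Ns U := Ns_inf (w.nx i) (normalizer_le_normalizer_centralizer _
    (centralizer_le_normalizer _ fun a ha => mem_C1.1 ha.2))
  have hb : b i ∈ Ns U := Ns_inf (w.nE (h.bE i)) (normalizer_le_normalizer_centralizer _
    (h.sE.le_Ns inf_le_left le_rfl (h.bE i)))
  have f : U ⊓ C1 (x i) = ⊥ := eq_bot_iff.2 ((inf_le_inf_right _ inf_le_left).trans (h.fpf i).le)
  have k := free s hx hb (h.odd i) (h.sE _ (h.bE i)) (h.inv i) f
  have e : U ⊓ C1 (b i) = ⁅V, zpowers (x i)⁆ ⊓ Cs E := by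
    refine le_antisymm (fun u hu => ⟨hu.1.1, fun a ha => ?_⟩) fun u hu =>
      ⟨⟨hu.1, fun a ha => hu.2 a ha.1⟩, mem_C1.2 (hu.2 _ (h.bE i)).symm⟩
    rcases h.pm i a ha with e | e
    · exact hu.1.2 a ⟨ha, mem_C1.2 (Class.RI.commute_of_cj_eq e)⟩
    · have h1 : Commute (b i * a) u := hu.1.2 _ ⟨mul_mem (h.bE i) ha, mem_C1.2
        (Class.RI.commute_of_cj_eq (by
          rw [show b i * a * x i * (b i * a)⁻¹ = b i * (a * x i * a⁻¹) * (b i)⁻¹ by group, e,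
            ← conj_inv, h.inv i, inv_inv]))⟩
      simpa using ((mem_C1.1 hu.2).symm.inv_left.mul_left h1).eq
  obtain ⟨u, hu, u1, hc⟩ := h.fix w.le inf_le_left (inf_le_left.trans w.nE) (h.ne i)
  have h1 : 1 < Nat.card U := (one_lt_card_iff_ne_bot U).2 fun e' => u1 (e'.le ⟨hu, hc⟩)
  have h2 : (Cs E).relIndex U < 4 := lt_of_le_of_lt (relIndex_le_of_le_right
    (inf_le_inf_right _ w.le) index_ne_zero_of_finite) (h.lt4 i)
  have h3 := relIndex_mul_relIndex ⊥ (U ⊓ C1 (b i)) U bot_le inf_le_left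
  have h4 : (U ⊓ C1 (b i)).relIndex U = (Cs E).relIndex U := by
    rw [← inf_relIndex_right (Cs E), e]
    congr 1
    exact le_antisymm (fun u hu => ⟨hu.2, hu.1, fun a ha => hu.2 a ha.1⟩) fun u hu => ⟨hu.2.1, hu.1⟩
  rw [relIndex_bot_left, relIndex_bot_left, h4, k, e] at h3
  rw [e] at k
  obtain ⟨n, hn⟩ := IsPGroup.iff_card.1 (h.s.mono (inf_le_left.trans w.le :
    ⁅V, zpowers (x i)⁆ ⊓ Cs E ≤ V)).pg
  have h5 : Nat.card ↥(⁅V, zpowers (x i)⁆ ⊓ Cs E) = 2 := by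
    rw [sq, Nat.mul_left_cancel_iff Nat.card_pos] at h3
    rw [k, hn] at h1
    rw [h3, hn] at h2
    rcases n with _ | _ | n
    · simp at h1
    · simpa using hn
    · rw [pow_succ, pow_succ] at h2
      have := Nat.two_pow_pos n
      omega
  refine ⟨h5, ?_⟩
  by_contra h6
  have h7 := cube s (by rw [k, h5]; rfl) hx (h.odd i)
  have h8 : x i ∈ Cs U := by
    obtain ⟨m, em⟩ := exists_pow_eq_self_of_coprime (x := x i) (n := 3)
      ((Nat.coprime_primes Nat.prime_three (h.pr i)).2 (Ne.symm h6))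
    exact em ▸ pow_mem h7 m
  exact u1 (f.le ⟨⟨hu, hc⟩, mem_C1.2 (h8 u ⟨hu, hc⟩)⟩)

theorem le_or (i j : ι) : ⁅V, zpowers (x j)⁆ ≤ C1 (x i) ∨ ⁅V, zpowers (x j)⁆ ≤ ⁅V, zpowers (x i)⁆ := by
  have w := h.icm h.top j
  have k := cm_sup (h.s.mono w.le) (w.nx i) (h.odd i)
  by_contra hn
  push Not at hn
  obtain ⟨u, hu, u1, hc⟩ := h.fix (h.icm w i).le le_rfl (h.icm w i).nE fun e =>
    hn.1 (by rw [← k, e, bot_sup_eq]; exact inf_le_right)
  obtain ⟨v, hv, v1, hd⟩ := h.fix (h.ic w i).le le_rfl (h.ic w i).nE fun e =>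
    hn.2 (by rw [← k, e, sup_bot_eq]; exact commutator_mono w.le le_rfl)
  obtain ⟨t, -, ht⟩ := (Nat.card_eq_two_iff' (1 : ↥(⁅V, zpowers (x j)⁆ ⊓ Cs E))).1 (h.two j).1
  have e : u = v := congrArg Subtype.val
    ((ht ⟨u, k.le (mem_sup_left hu), hc⟩ fun e => u1 (congrArg Subtype.val e)).trans
      (ht ⟨v, hv.1, hd⟩ fun e => v1 (congrArg Subtype.val e)).symm)
  exact u1 ((cm_inf (h.s.mono w.le) (w.nx i) (h.odd i)).le ⟨hu, e ▸ hv.2⟩)

theorem eq_or (i j : ι) : ⁅V, zpowers (x j)⁆ ≤ C1 (x i) ∨ ⁅V, zpowers (x j)⁆ = ⁅V, zpowers (x i)⁆ :=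
  (h.le_or i j).imp_right fun k => le_antisymm k ((h.le_or j i).resolve_left fun k' =>
    h.ne j (eq_bot_iff.2 ((le_inf le_rfl (k.trans k')).trans (h.fpf j).le)))

/-- an element of order three without fixed points -/
theorem norm3 (i : ι) {u : Γ} (hu : u ∈ ⁅V, zpowers (x i)⁆) :
    u * (x i * u * (x i)⁻¹) * ((x i)⁻¹ * u * x i) = 1 := by
  have w := h.icm h.top i
  have h1 := mem_normalizer_conj (w.nx i) hu
  have h2 := mem_normalizer_conj' (w.nx i) hu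
  have h3 : x i * x i = (x i)⁻¹ := eq_inv_of_mul_eq_one_left (by
    rw [← pow_two, ← pow_succ]; exact orderOf_dvd_iff_pow_eq_one.1 (h.two i).2.dvd)
  refine (h.fpf i).le ⟨mul_mem (mul_mem hu h1) h2, mem_C1.2 (Class.RI.commute_of_cj_eq ?_).symm⟩
  calc _ = x i * u * (x i)⁻¹ * (x i * x i * u * (x i * x i)⁻¹) * u := by group
    _ = _ := by
      rw [h3, inv_inv, (h.s.comm (w.le (mul_mem h1 h2)) (w.le hu)).eq, mul_assoc u]

theorem al16 (hne : i ≠ j) (e : ⁅V, zpowers (x j)⁆ = ⁅V, zpowers (x i)⁆)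
    (c : Nat.card ↥⁅V, zpowers (x i)⁆ = 16) : Al V F S := by
  have w := h.icm h.top i
  have s := h.s.mono w.le
  have hy : x i * x j ∈ F := mul_mem (h.xF i) (h.xF j)
  have o : Odd (orderOf (x i * x j)) :=
    h.oddF.of_dvd_nat (F.orderOf_dvd_natCard hy)
  have hn := mul_mem (w.nx i) (w.nx j)
  have e1 : b j * (x i * x j) * (b j)⁻¹ = x i * (x j)⁻¹ := by
    rw [← conj_mul, h.inv j, (h.bx j i hne.symm).mul_inv_cancel]
  have k := sq_card s hn (w.nE (h.bE j)) (fun u hu h1 h2 => by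
    refine (h.fpf i).le ⟨hu, mem_C1.2 (Class.RI.commute_of_sq (h.odd i) ?_)⟩
    have := h1.mul_right h2
    rwa [e1, mul_assoc, ← mul_assoc (x j), ← (h.xx i j).eq, mul_assoc, mul_inv_cancel,
      mul_one] at this) (Or.inr fun u hu => by
    rw [e1]
    refine (Class.RI.commute_of_cj_eq ?_).symm
    have cx := (h.xx i j).eq
    have x3 : ∀ i, x i * x i = (x i)⁻¹ := fun i => eq_inv_of_mul_eq_one_left (by
      rw [← pow_two, ← pow_succ]; exact orderOf_dvd_iff_pow_eq_one.1 (h.two i).2.dvd)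
    have m1 := mem_normalizer_conj' (w.nx i) hu
    have m2 := mem_normalizer_conj (w.nx i) hu
    have n1 := h.norm3 i hu
    have n2 := h.norm3 j (e ▸ m2)
    have i1 := Class.RI.inv_of_sq (s u hu)
    have a1 : x i * (x j)⁻¹ * ⁅u, x i * x j⁆ * (x i * (x j)⁻¹)⁻¹ =
        (x j)⁻¹ * (x i * u * (x i)⁻¹) * x j * ((x i)⁻¹ * u * x i) := by
      rw [commutatorElement_def, i1]
      calc _ = x i * (x j)⁻¹ * u * (x i * (x j)⁻¹)⁻¹ * (x i * (x j)⁻¹ * (x i * x j) * u *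
            (x i * (x j)⁻¹ * (x i * x j))⁻¹) := by group
        _ = _ := by
          rw [show x i * (x j)⁻¹ * (x i * x j) = (x i)⁻¹ by rw [cx, ← x3 i]; group,
            (h.xx i j).inv_right.eq]
          group
    have a2 : ⁅u, x i * x j⁆ = u * (x j * (x i * u * (x i)⁻¹) * (x j)⁻¹) := by
      rw [commutatorElement_def, i1, cx]; group
    rw [a1, a2]
    have m3 := mem_normalizer_conj' (w.nx j) m2
    have m4 := mem_normalizer_conj (w.nx j) m2
    generalize (x j)⁻¹ * (x i * u * (x i)⁻¹) * x j = p at *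
    generalize x j * (x i * u * (x i)⁻¹) * (x j)⁻¹ = q at *
    generalize (x i)⁻¹ * u * x i = r at *
    generalize x i * u * (x i)⁻¹ = t at *
    rw [eq_inv_of_mul_eq_one_right n1, eq_inv_of_mul_eq_one_right n2,
      Class.RI.inv_of_sq (s _ (mul_mem hu m2)), Class.RI.inv_of_sq (s _ (mul_mem m2 m4)),
      (s.comm hu m2).eq, (s.comm m2 m4).eq, mul_assoc, ← mul_assoc t, s t m2, one_mul]
    exact (s.comm m4 hu).eq)
  have k1 := cm_card s hn o
  have k2 : Nat.card ↥(⁅V, zpowers (x i)⁆ ⊓ C1 (x i * x j)) = 4 :=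
    Nat.pow_left_injective two_ne_zero (k.symm.trans c)
  have hV := h.FV hy
  have k3 : ⁅V, zpowers (x i * x j)⁆ ≤ ⁅V, zpowers (x i)⁆ := by
    rw [commutator_comm]
    refine commutator_le_of_le_commStab (zpowers_le.2 (mul_mem ?_ ?_))
    · exact le_commStab (zpowers_le.2 (w.nx i)) (commutator_comm _ _).le (mem_zpowers _)
    · exact le_commStab (zpowers_le.2 (w.nx j)) ((commutator_comm _ _).trans e).le (mem_zpowers _)
  have k4 : ⁅⁅V, zpowers (x i)⁆, zpowers (x i * x j)⁆ = ⁅V, zpowers (x i * x j)⁆ :=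
    le_antisymm (commutator_mono w.le le_rfl) ((Solv.Coprime.commutator_commutator
      (zpowers_le.2 hV) (cop h.s o)).ge.trans (commutator_mono k3 le_rfl))
  rw [c, k2, k4] at k1
  refine al_of4 h.toMd4 h.s hy (h.le (mul_mem (h.bE i) (h.bE j))) ?_ (by omega)
  rw [show b i * b j * (x i * x j) * (b i * b j)⁻¹ = b i * (b j * (x i * x j) * (b j)⁻¹) * (b i)⁻¹ by
    group, e1, ← conj_mul, h.inv i, (h.bx i j hne).inv_right.mul_inv_cancel, (h.xx i j).eq,
    mul_inv_rev]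

theorem big (na : ¬ Al V F S) {I : Finset ι} (hi : i ∈ I)
    (hI : ∀ j ∈ I, ⁅V, zpowers (x j)⁆ = ⁅V, zpowers (x i)⁆) :
    2 * 4 ^ I.card < Nat.card ↥⁅V, zpowers (x i)⁆ := by
  classical
  have w := h.icm h.top i
  obtain ⟨m, hm, e⟩ := iter h.odd (fun i => h.sE _ (h.bE i)) h.inv h.bx
    (fun i j => h.sE.comm (h.bE i) (h.bE j)) I _ (h.s.mono w.le) (h.ne i) fun j hj =>
      ⟨w.nx j, w.nE (h.bE j), hI j hj ▸ h.fpf j⟩
  have pos := Finset.card_pos.2 ⟨i, hi⟩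
  by_cases h3 : 3 ≤ I.card
  · exact e ▸ (two_pow_le _ h3).trans_le (Nat.pow_le_pow_left hm _)
  by_cases h2 : m = 2
  · refine (na ?_).elim
    by_cases h1 : I.card = 1
    · exact al_of4 h.toMd4 h.s (h.xF i) (h.le (h.bE i)) (h.inv i) (by rw [e, h1, h2]; rfl)
    · obtain ⟨j, hj, hne⟩ := Finset.exists_mem_ne (show 1 < I.card by omega) i
      exact h.al16 hne.symm (hI j hj) (by rw [e, h2, show I.card = 2 by omega]; rfl)
  · have := Nat.pow_le_pow_left (show 3 ≤ m by omega) (2 ^ I.card)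
    rw [e]
    refine lt_of_lt_of_le ?_ this
    rcases (show I.card = 1 ∨ I.card = 2 by omega) with e | e <;> rw [e] <;> norm_num

theorem fix_le (u : Inv V E x U) (i : ι) : Nat.card ↥(U ⊓ Cs E) ≤
    Nat.card ↥(⁅U, zpowers (x i)⁆ ⊓ Cs E) * Nat.card ↥(U ⊓ C1 (x i) ⊓ Cs E) := by
  have w := h.icm u i
  have w' := h.ic u i
  have d := cm_inf (h.s.mono u.le) (u.nx i) (h.odd i)
  refine le_trans (Subgroup.card_le_of_le fun v hv => ?_) (Nat.le_of_dvd (Nat.mul_pos Nat.card_pos Nat.card_pos)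
    (Solv.card_sup_dvd_of_le_normalizer
      (h.s.le_Ns (inf_le_left.trans w.le) (inf_le_left.trans w'.le))))
  obtain ⟨p, hp, q, hq, rfl⟩ := (Solv.mem_sup_of_le_normalizer (h.s.le_Ns w.le w'.le)).1
    ((cm_sup (h.s.mono u.le) (u.nx i) (h.odd i)).ge hv.1)
  have hp' : p ∈ Cs E := fun a ha => by
    have e : p⁻¹ * (a * p * a⁻¹) = q * (a * q⁻¹ * a⁻¹) := by
      have := hv.2 a ha
      calc _ = p⁻¹ * (a * (p * q)) * q⁻¹ * a⁻¹ := by group
        _ = _ := by rw [this]; group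
    have m := mul_mem hq (mem_normalizer_conj (w'.nE ha) (inv_mem hq))
    have m' := mul_mem (inv_mem hp) (mem_normalizer_conj (w.nE ha) hp)
    have k : p⁻¹ * (a * p * a⁻¹) = 1 := d.le ⟨m', e ▸ m.2⟩
    rw [inv_mul_eq_one, eq_mul_inv_iff_mul_eq] at k
    exact k.symm
  exact mul_mem_sup ⟨hp, hp'⟩ ⟨hq, (mul_mem_cancel_left hp').1 hv.2⟩

theorem count (na : ¬ Al V F S) (J : Finset ι) : ∀ U, Inv V E x U →
    (∀ j ∈ J, ⁅V, zpowers (x j)⁆ ≤ U) → J.Nonempty → 4 ^ J.card * Nat.card ↥(U ⊓ Cs E) < Nat.card U := by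
  classical
  induction J using Finset.strongInductionOn with
  | _ J ih =>
  rintro U u hJ ⟨i, hi⟩
  have e : ⁅U, zpowers (x i)⁆ = ⁅V, zpowers (x i)⁆ := le_antisymm (commutator_mono u.le le_rfl)
    ((Solv.Coprime.commutator_commutator (zpowers_le.2 (h.top.nx i)) (cop h.s (h.odd i))).ge.trans
      (commutator_mono (hJ i hi) le_rfl))
  have h1 := cm_card (h.s.mono u.le) (u.nx i) (h.odd i)
  have h2 := h.fix_le u i
  rw [e] at h1 h2
  rw [(h.two i).1] at h2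
  let p := fun j => ⁅V, zpowers (x j)⁆ = ⁅V, zpowers (x i)⁆
  have h3 := h.big na (I := J.filter p) (Finset.mem_filter.2 ⟨hi, rfl⟩)
    fun j hj => (Finset.mem_filter.1 hj).2
  have h4 : 4 ^ (J.filter fun j => ¬ p j).card * Nat.card ↥(U ⊓ C1 (x i) ⊓ Cs E) ≤
      Nat.card ↥(U ⊓ C1 (x i)) := by
    rcases (J.filter fun j => ¬ p j).eq_empty_or_nonempty with e' | e'
    · rw [e', Finset.card_empty, pow_zero, one_mul]
      exact Subgroup.card_le_of_le inf_le_left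
    · exact (ih _ (Finset.filter_ssubset.2 ⟨i, hi, fun k => k rfl⟩) _ (h.ic u i) (fun j hj =>
        le_inf (hJ j (Finset.mem_filter.1 hj).1)
          ((h.eq_or i j).resolve_right (Finset.mem_filter.1 hj).2)) e').le
  rw [← Finset.card_filter_add_card_filter_not (s := J) p, pow_add, h1]
  calc _ ≤ 2 * 4 ^ (J.filter p).card * (4 ^ (J.filter fun j => ¬ p j).card *
        Nat.card ↥(U ⊓ C1 (x i) ⊓ Cs E)) := (Nat.mul_le_mul_left _ h2).trans_eq (by ring)
    _ ≤ _ := Nat.mul_le_mul_left _ h4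
    _ < _ := Nat.mul_lt_mul_of_pos_right h3 Nat.card_pos

end Fm4

end Big

open Big

theorem Md4.big (h : Md4 V F S A) (le : E ≤ S) (ea : IsElementaryAbelian 2 E) (four : 4 ≤ Nat.card E)
    (off : (Cs E).relIndex V ≤ Nat.card E ^ 2)
    (min : ∀ E₀ < E, E₀ ≠ ⊥ → Nat.card E₀ ^ 2 < (Cs E₀).relIndex V) : Al V F S := by
  have : Fact (Nat.Prime 2) := ⟨Nat.prime_two⟩
  have sE : Sq E := fun a ha => by rw [← pow_two]; exact ea.2 a ha
  obtain ⟨d, hd⟩ := IsPGroup.iff_card.1 sE.pg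
  have := ea.1
  obtain ⟨x, b, h1, h2, h3, -⟩ := Solv.Coprime.exists_dihedral_family (A := E) ea.2 d h.nil h.oddF
    (le.trans h.SF) le_rfl hd (eq_bot_iff.2 ((inf_le_inf_right _ le).trans h.faithF.le))
  have f : Fm4 V F S A E x b := ⟨h, fun a ha => by rw [← pow_two]; exact h.ea.2 a ha, le, sE,
    fun i => (h1 i).1, fun i => (h1 i).2.1, fun i => (h1 i).2.2.1, fun i => (h1 i).2.2.2.1,
    fun i => (h1 i).2.2.2.2, h2, h3, fun i => by
      obtain ⟨k1, k2, k3, k4, k5⟩ := h1 i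
      have o : Odd (orderOf (x i)) :=
        h.oddF.of_dvd_nat (F.orderOf_dvd_natCard k1)
      have nb : b i ∉ C1 (x i) := fun k => k2.ne_one (orderOf_eq_one_iff.2
        (Class.RI.eq_one_of_odd_sq o (by
          rw [(Big.mem_C1.1 k).mul_inv_cancel] at k5; exact mul_eq_one_iff_eq_inv.2 k5)))
      have idx : (E ⊓ C1 (x i)).relIndex E = 2 := by
        rw [inf_relIndex_left, relIndex, index_eq_two_iff]
        refine ⟨⟨b i, k3⟩, fun a => ?_⟩
        rcases k4 a a.2 with e | e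
        · have m : (a : Γ) ∈ C1 (x i) := Big.mem_C1.2 (Class.RI.commute_of_cj_eq e)
          exact Or.inr ⟨m, fun k => nb ((mul_mem_cancel_left m).1 k)⟩
        · have m : (a : Γ) * b i ∈ C1 (x i) := Big.mem_C1.2 (Class.RI.commute_of_cj_eq (by
            rw [show a * b i * x i * (a * b i)⁻¹ = a * (b i * x i * (b i)⁻¹) * (a : Γ)⁻¹ by group, k5,
              ← conj_inv, e, inv_inv]))
          exact Or.inl ⟨m, fun k => nb (((C1 (x i)).mul_mem_cancel_left k).1 m)⟩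
      have c := relIndex_mul_relIndex ⊥ (E ⊓ C1 (x i)) E bot_le inf_le_left
      rw [relIndex_bot_left, relIndex_bot_left, idx] at c
      have m := min (E ⊓ C1 (x i)) (lt_of_le_of_ne inf_le_left fun e => nb (e.ge k3).2) fun e => by
        rw [e, card_bot] at c
        omega
      have r := relIndex_inf_mul_relIndex (Cs E) (Cs (E ⊓ C1 (x i))) V
      rw [inf_of_le_left (centralizer_le (SetLike.coe_subset_coe.2 inf_le_left)), inf_comm] at r
      by_contra hn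
      rw [← c, ← r] at off
      nlinarith⟩
  by_contra na
  have d0 : d ≠ 0 := fun e => by rw [e] at hd; omega
  have k := f.count na Finset.univ V f.top (fun j _ => (f.icm f.top j).le) ⟨⟨0, by omega⟩, by simp⟩
  have c := relIndex_mul_relIndex ⊥ (V ⊓ Cs E) V bot_le inf_le_left
  rw [relIndex_bot_left, relIndex_bot_left, inf_relIndex_left] at c
  rw [Finset.card_univ, Fintype.card_fin, ← c, mul_comm] at k
  rw [hd, ← pow_mul, mul_comm, pow_mul] at off
  exact absurd (Nat.lt_of_mul_lt_mul_left k) (not_lt.2 off)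

end Cfsg.Lib.FPF
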